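import Cfsg.Agent.S2119
import Cfsg.Agent.S2530

/-! Gluing two symmetric groups along a common two-point stabilizer. -/

set_option autoImplicit false

open Equiv

namespace Cfsg.Agent.SymGlue

/-- A permutation centralising every even permutation is trivial. -/
theorem eq_one_of_comm_alt {n : ℕ} (hn : 5 ≤ n) (π : Perm (Fin n))
    (h : ∀ τ : Perm (Fin n), τ ∈ alternatingGroup (Fin n) → π * τ = τ * π) : π = 1 := by
  by_contra hne
  obtain ⟨a, ha⟩ : ∃ a, π a ≠ a := by
    by_contra hh; push Not at hh; exact hne (Equiv.ext hh)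
  have hc : 1 < (({a, π a} : Finset (Fin n))ᶜ).card := by
    rw [Finset.card_compl, Fintype.card_fin]
    have := Finset.card_le_two (a := a) (b := π a)
    omega
  obtain ⟨c, hc', d, hd', hcd⟩ := Finset.one_lt_card.1 hc
  simp only [Finset.mem_compl, Finset.mem_insert, Finset.mem_singleton, not_or] at hc' hd'
  have hτ : swap (π a) c * swap c d ∈ alternatingGroup (Fin n) := by
    rw [Perm.mem_alternatingGroup, map_mul, Perm.sign_swap (Ne.symm hc'.2), Perm.sign_swap hcd]
    rfl
  have := congrArg (fun f : Perm (Fin n) => f a) (h _ hτ)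
  simp only [Perm.mul_apply] at this
  rw [swap_apply_of_ne_of_ne (Ne.symm hc'.1) (Ne.symm hd'.1),
    swap_apply_of_ne_of_ne (Ne.symm ha) (Ne.symm hc'.1),
    swap_apply_of_ne_of_ne (Ne.symm hc'.2) (Ne.symm hd'.2), swap_apply_left] at this
  exact hc'.2 this.symm

/-- Automorphisms of the symmetric group are inner away from degree six. -/
theorem aut_inner {n : ℕ} (hn : 7 ≤ n) (ψ : Perm (Fin n) ≃* Perm (Fin n)) :
    ∃ s : Perm (Fin n), ∀ g, ψ g = s * g * s⁻¹ := by
  have : Nontrivial (Fin n) := Fin.nontrivial_iff_two_le.2 (by omega)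
  have hs : Perm.sign.comp ψ.toMonoidHom = Perm.sign :=
    Perm.eq_sign_of_surjective_hom
      (show Function.Surjective (Perm.sign ∘ ψ) from (Perm.sign_surjective _).comp ψ.surjective)
  have hsg : ∀ g, Perm.sign (ψ g) = Perm.sign g := fun g => DFunLike.congr_fun hs g
  let f : alternatingGroup (Fin n) →* alternatingGroup (Fin n) :=
    (ψ.toMonoidHom.comp (alternatingGroup (Fin n)).subtype).codRestrict _ fun x =>
      Perm.mem_alternatingGroup.2 ((hsg x).trans (Perm.mem_alternatingGroup.1 x.2))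
  have hf : Function.Bijective f := Finite.injective_iff_bijective.1 fun x y hxy =>
    Subtype.ext (ψ.injective (congrArg Subtype.val hxy :))
  obtain ⟨s, hs'⟩ := (S2119.result n (by omega) (by omega)).2 (MulEquiv.ofBijective f hf)
  have hA : ∀ τ ∈ alternatingGroup (Fin n), ψ τ = s * τ * s⁻¹ := fun τ hτ => by
    have := congrArg (fun e : MulAut (alternatingGroup (Fin n)) => ((e ⟨τ, hτ⟩ : _) : Perm (Fin n))) hs'
    simpa [f, MulAut.conjNormal_apply] using this.symm
  refine ⟨s, fun g => ?_⟩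
  have : g⁻¹ * (s⁻¹ * ψ g * s) = 1 := by
    refine eq_one_of_comm_alt (by omega) _ fun τ hτ => ?_
    have hgt : g * τ * g⁻¹ ∈ alternatingGroup (Fin n) :=
      (inferInstance : (alternatingGroup (Fin n)).Normal).conj_mem τ hτ g
    have h1 := hA _ hgt
    rw [map_mul, map_mul, map_inv, hA τ hτ] at h1
    have h2 : s⁻¹ * (ψ g * (s * τ * s⁻¹) * (ψ g)⁻¹) * s = g * τ * g⁻¹ := by rw [h1]; group
    calc g⁻¹ * (s⁻¹ * ψ g * s) * τ
        = g⁻¹ * (s⁻¹ * (ψ g * (s * τ * s⁻¹) * (ψ g)⁻¹) * s) * (s⁻¹ * ψ g * s) := by group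
      _ = τ * (g⁻¹ * (s⁻¹ * ψ g * s)) := by rw [h2]; group
  have h3 := inv_mul_eq_one.1 this
  conv_rhs => rw [h3]
  group

/-- Embedding of a symmetric group along an injection, on transpositions. -/
theorem via_swap {p m : ℕ} (ε : Fin p ↪ Fin m) (a b : Fin p) :
    Perm.viaEmbeddingHom ε (swap a b) = swap (ε a) (ε b) := by
  ext x
  by_cases hx : x ∈ Set.range ε
  · obtain ⟨k, rfl⟩ := hx
    rw [Perm.viaEmbeddingHom_apply, Perm.viaEmbedding_apply, ε.injective.swap_apply]
  · rw [Perm.viaEmbeddingHom_apply, Perm.viaEmbedding_apply_of_notMem _ _ _ hx,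
      swap_apply_of_ne_of_ne]
    · exact fun h => hx ⟨a, h.symm⟩
    · exact fun h => hx ⟨b, h.symm⟩

theorem mem_range_via {p m : ℕ} (ε : Fin p ↪ Fin m) (π : Perm (Fin m))
    (h : ∀ x, x ∉ Set.range ε → π x = x) : π ∈ (Perm.viaEmbeddingHom ε).range := by
  classical
  have hmap : ∀ k, ∃ l, ε l = π (ε k) := fun k => by
    by_contra hh
    have h1 : π (ε k) ∉ Set.range ε := fun ⟨l, hl⟩ => hh ⟨l, hl⟩
    have h2 : π (ε k) = ε k := π.injective (h _ h1)
    exact hh ⟨k, h2.symm⟩
  choose r hr using hmap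
  have hinj : Function.Injective r := fun k l hkl =>
    ε.injective (π.injective (by rw [← hr, ← hr, hkl]))
  refine ⟨Equiv.ofBijective r (Finite.injective_iff_bijective.1 hinj), Equiv.ext fun x => ?_⟩
  by_cases hx : x ∈ Set.range ε
  · obtain ⟨k, rfl⟩ := hx
    rw [Perm.viaEmbeddingHom_apply, Perm.viaEmbedding_apply]
    exact hr k
  · rw [Perm.viaEmbeddingHom_apply, Perm.viaEmbedding_apply_of_notMem _ _ _ hx, h x hx]

variable {G : Type*} [Group G]

/-- Coordinates for a symmetric group with a marked transposition and two-point stabilizer. -/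
theorem normalise {p m : ℕ} (hp : 3 ≤ p) (K L : Subgroup G) (e : Perm (Fin m) ≃* K) (y : G)
    (hy : ∃ i j, i ≠ j ∧ ((e (swap i j) : K) : G) = y)
    (hL : ∃ a b : Fin m, a ≠ b ∧ L = (MulAction.stabilizer (Perm (Fin m)) a ⊓
      MulAction.stabilizer (Perm (Fin m)) b).map (K.subtype.comp e.toMonoidHom))
    (hc : ∀ l ∈ L, l * y = y * l)
    (ε : Fin p ↪ Fin m) (A B : Fin m) (hAB : A ≠ B)
    (hrange : ∀ x, x ∈ Set.range ε ↔ (x ≠ A ∧ x ≠ B)) :
    ∃ f : Perm (Fin m) →* G, Function.Injective f ∧ f.range = K ∧ f (swap A B) = y ∧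
      (f.comp (Perm.viaEmbeddingHom ε)).range = L := by
  obtain ⟨i, j, hij, rfl⟩ := hy
  obtain ⟨a, b, hab, rfl⟩ := hL
  obtain ⟨σ, hσA, hσB⟩ : ∃ σ : Perm (Fin m), σ A = a ∧ σ B = b := by
    have hne : swap A a B ≠ a := fun h => hAB ((swap A a).injective
      (show swap A a A = swap A a B by rw [swap_apply_left, h]))
    refine ⟨swap (swap A a B) b * swap A a, ?_, ?_⟩
    · rw [Perm.mul_apply, swap_apply_left, swap_apply_of_ne_of_ne hne.symm hab]
    · rw [Perm.mul_apply, swap_apply_left]
  have hm : p + 2 = m := by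
    have h1 : Finset.univ.map ε = ({A, B} : Finset (Fin m))ᶜ := by
      ext x
      simpa [Set.mem_range] using hrange x
    have h2 := congrArg Finset.card h1
    rw [Finset.card_map, Finset.card_univ, Fintype.card_fin, Finset.card_compl,
      Fintype.card_fin, Finset.card_pair hAB] at h2
    omega
  -- the marked transposition is the one on the two fixed points
  have hfix : swap i j = swap a b := by
    have key : ∀ k l : Fin m, k ≠ a → k ≠ b → l ≠ a → l ≠ b →
        swap k l * swap i j = swap i j * swap k l := fun k l h1 h2 h3 h4 => by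
      have hmem : swap k l ∈ MulAction.stabilizer (Perm (Fin m)) a ⊓
          MulAction.stabilizer (Perm (Fin m)) b :=
        ⟨swap_apply_of_ne_of_ne h1.symm h3.symm, swap_apply_of_ne_of_ne h2.symm h4.symm⟩
      have := hc _ (Subgroup.mem_map_of_mem _ hmem)
      apply e.injective
      apply Subtype.ext
      simpa using this
    have hfx : ∀ k, k ≠ a → k ≠ b → swap i j k = k := fun k h1 h2 => by
      have hcard : 1 < (({a, b, k} : Finset (Fin m))ᶜ).card := by
        rw [Finset.card_compl, Fintype.card_fin]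
        have : ({a, b, k} : Finset (Fin m)).card ≤ 3 := Finset.card_le_three
        omega
      obtain ⟨l, hl, l', hl', hll⟩ := Finset.one_lt_card.1 hcard
      simp only [Finset.mem_compl, Finset.mem_insert, Finset.mem_singleton, not_or] at hl hl'
      have hval : ∀ u : Fin m, u ≠ a → u ≠ b → u ≠ k → swap i j k = k ∨ swap i j k = u := by
        intro u u1 u2 u3
        by_contra hh
        rw [not_or] at hh
        have := congrArg (fun q : Perm (Fin m) => q k) (key k u h1 h2 u1 u2)
        simp only [Perm.mul_apply, swap_apply_left] at this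
        rw [swap_apply_of_ne_of_ne hh.1 hh.2] at this
        exact u3 ((swap i j).injective this).symm
      rcases hval l hl.1 hl.2.1 hl.2.2 with h | h
      · exact h
      rcases hval l' hl'.1 hl'.2.1 hl'.2.2 with h' | h'
      · exact h'
      exact (hll (h.symm.trans h')).elim
    have hi : i = a ∨ i = b := by
      by_contra hh; rw [not_or] at hh
      exact hij ((hfx i hh.1 hh.2).symm.trans (swap_apply_left i j))
    have hj : j = a ∨ j = b := by
      by_contra hh; rw [not_or] at hh
      exact hij (((hfx j hh.1 hh.2).symm.trans (swap_apply_right i j)).symm)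
    rcases hi with rfl | rfl <;> rcases hj with rfl | rfl
    · exact absurd rfl hij
    · rfl
    · exact swap_comm _ _
    · exact absurd rfl hij
  let f : Perm (Fin m) →* G := (K.subtype.comp e.toMonoidHom).comp (MulAut.conj σ).toMonoidHom
  have hf : ∀ g, f g = ((e (σ * g * σ⁻¹) : K) : G) := fun g => rfl
  refine ⟨f, ?_, ?_, ?_, ?_⟩
  · exact K.subtype_injective.comp (e.injective.comp (MulAut.conj σ).injective)
  · ext g
    constructor
    · rintro ⟨q, rfl⟩; exact (e _).2
    · intro hg
      exact ⟨σ⁻¹ * e.symm ⟨g, hg⟩ * σ, by rw [hf]; simp [mul_assoc]⟩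
  · rw [hf, hfix, ← hσA, ← hσB]
    congr 2
    ext x; simp [Equiv.swap_apply_apply]
  · ext g
    constructor
    · rintro ⟨q, rfl⟩
      have hq : ∀ z, z ∉ Set.range ε → Perm.viaEmbeddingHom ε q z = z := fun z hz => by
        rw [Perm.viaEmbeddingHom_apply, Perm.viaEmbedding_apply_of_notMem _ _ _ hz]
      refine ⟨σ * Perm.viaEmbeddingHom ε q * σ⁻¹, ⟨?_, ?_⟩, rfl⟩
      · show (σ * Perm.viaEmbeddingHom ε q * σ⁻¹) a = a
        rw [← hσA]; simp [Perm.mul_apply, hq A (by simp [hrange])]
      · show (σ * Perm.viaEmbeddingHom ε q * σ⁻¹) b = b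
        rw [← hσB]; simp [Perm.mul_apply, hq B (by simp [hrange])]
    · rintro ⟨q, ⟨hqa, hqb⟩, rfl⟩
      have hqa' : q (σ A) = σ A := by rw [hσA]; exact hqa
      have hqb' : q (σ B) = σ B := by rw [hσB]; exact hqb
      obtain ⟨r, hr⟩ := mem_range_via ε (σ⁻¹ * q * σ) fun x hx => by
        rw [hrange, not_and_or, not_not, not_not] at hx
        rcases hx with rfl | rfl
        · simp [Perm.mul_apply, hqa']
        · simp [Perm.mul_apply, hqb']
      refine ⟨r, ?_⟩
      show f (Perm.viaEmbeddingHom ε r) = _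
      rw [hr, hf]
      simp [mul_assoc]

/-- Adjacent transpositions satisfy the Coxeter relations. -/
theorem adj_rel {N : ℕ} (a b : ℕ) (ha : a + 1 < N) (hb : b + 1 < N) :
    ((swap (⟨a, by omega⟩ : Fin N) ⟨a + 1, ha⟩) * swap ⟨b, by omega⟩ ⟨b + 1, hb⟩) ^
      (if a = b then 1 else (if b + 1 = a ∨ a + 1 = b then 3 else 2)) = 1 := by
  split_ifs with h1 h2
  · subst h1; simp
  · rcases h2 with h | h
    · subst h
      have := (Perm.isThreeCycle_swap_mul_swap_same (a := (⟨b + 1, by omega⟩ : Fin N))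
        (b := ⟨b + 1 + 1, ha⟩) (c := ⟨b, by omega⟩) (Fin.ne_of_val_ne (by simp))
        (Fin.ne_of_val_ne (by simp)) (Fin.ne_of_val_ne (by simp; omega))).orderOf
      rw [← this, swap_comm (⟨b, by omega⟩ : Fin N)]
      exact pow_orderOf_eq_one _
    · subst h
      have := (Perm.isThreeCycle_swap_mul_swap_same (a := (⟨a + 1, ha⟩ : Fin N))
        (b := ⟨a, by omega⟩) (c := ⟨a + 1 + 1, hb⟩) (Fin.ne_of_val_ne (by simp))
        (Fin.ne_of_val_ne (by simp)) (Fin.ne_of_val_ne (by simp; omega))).orderOf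
      rw [← this, swap_comm (⟨a, by omega⟩ : Fin N)]
      exact pow_orderOf_eq_one _
  · rw [not_or] at h2
    have hd : Perm.Disjoint (swap (⟨a, by omega⟩ : Fin N) ⟨a + 1, ha⟩)
        (swap ⟨b, by omega⟩ ⟨b + 1, hb⟩) := by
      intro x
      by_cases hx : x = (⟨a, by omega⟩ : Fin N) ∨ x = ⟨a + 1, ha⟩
      · right
        rcases hx with rfl | rfl <;>
          refine swap_apply_of_ne_of_ne ?_ ?_ <;> apply Fin.ne_of_val_ne <;> simp <;> omega
      · rw [not_or] at hx
        exact Or.inl (swap_apply_of_ne_of_ne hx.1 hx.2)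
    rw [hd.commute.mul_pow, pow_two, pow_two, swap_mul_self, swap_mul_self, one_mul]

end Cfsg.Agent.SymGlue
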